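import Cfsg.Agent.TAB.Sm1.Tool
import Cfsg.Agent.TAB.Sm1.Fin
import Cfsg.Agent.TAB.Co.Gen

/-!
# The table of `Ru` : numerical data and certificates (helper88, TAB)

The types are 0:1a 1:2a 2:2b 3:3a 4:4a 5:4b 6:4c 7:4d 8:5a 9:5b 10:6a 11:7a 12:8a 13:8b 14:8c 15:10a 16:10b 17:12a 18:12b
19:13a 20:14abc 21:15a 22:16ab 23:20ab 24:20c 25:24ab 26:26abc 27:29ab.
-/

set_option autoImplicit false
set_option maxRecDepth 100000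

namespace Cfsg.Agent.TAB.Ru

open Cfsg Cfsg.Agent.TAB.Eng Cfsg.Agent.TAB.Use Cfsg.Agent.TAB.Co

/-- the types -/
def D : Dat where
n := 28
N := 145926144000
ordL := [1, 2, 2, 3, 4, 4, 4, 4, 5, 5, 6, 7, 8, 8, 8, 10, 10, 12, 12, 13, 14, 15, 16, 20, 20, 24, 26, 29]
cntL := [1, 1252800, 593775, 67558400, 142506000, 285012000, 38001600, 19000800, 486420480, 145926144, 3040128000,
    5211648000, 4560192000, 2280096000, 1520064000, 7296307200, 3648153600, 12160512000, 6080256000, 2806272000,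
    15634944000, 9728409600, 18240768000, 14592614400, 7296307200, 12160512000, 8418816000, 10063872000]
pwL := [[],
[(1, 1)],
[(1, 2)],
[(1, 3)],
[(1, 4), (2, 2)],
[(1, 5), (2, 2)],
[(1, 6), (2, 2)],
[(1, 7), (2, 2)],
[(1, 8)],
[(1, 9)],
[(1, 10), (2, 3), (3, 2)],
[(1, 11)],
[(1, 12), (2, 5), (4, 2)],
[(1, 13), (2, 4), (4, 2)],
[(1, 14), (2, 7), (4, 2)],
[(1, 15), (2, 8), (5, 1)],
[(1, 16), (2, 9), (5, 2)],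
[(1, 17), (2, 10), (3, 6), (4, 3), (6, 2)],
[(1, 18), (2, 10), (3, 7), (4, 3), (6, 2)],
[(1, 19)],
[(1, 20), (2, 11), (7, 1)],
[(1, 21), (3, 8), (5, 3)],
[(1, 22), (2, 13), (4, 4), (8, 2)],
[(1, 23), (2, 16), (4, 9), (5, 6), (10, 2)],
[(1, 24), (2, 16), (4, 9), (5, 7), (10, 2)],
[(1, 25), (2, 18), (3, 14), (4, 10), (6, 7), (8, 3), (12, 2)],
[(1, 26), (2, 19), (13, 1)],
[(1, 27)]]

/-- the seeds : the characters of degrees 783, 3276, 3562650 and the number of square roots -/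
def seeds : List (List ℤ) := [
[783, -1, 15, 0, -1, -1, 15, 15, 3, 8, 0, -1, -1, 3, 3, -1, 0, 0, 0, 3, -1, 0, 1, 0, 0, 0, -1, 0],
[3276, 0, 76, 9, 4, 8, 4, 16, -4, 1, 1, 0, 2, 0, 2, 0, 1, 1, 1, 0, 0, -1, 0, -1, 1, -1, 0, -1],
[3562650, 910, 2586, 0, 50, 38, 66, 366, 0, 25, 0, 0, 4, 6, 12, 0, 1, 0, 0, 0, 0, 0, 2, 1, 1, 0, 0, 0],
[1846576, 0, 816, 46, 16, 16, 0, 80, 16, 26, 6, 4, 0, 8, 0, 0, 6, 0, 2, 4, 0, 1, 0, 0, 0, 0, 0, 1]]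

/-- the sums of the Galois orbits of irreducible characters -/
def rows : List (List ℤ) := [
[1, 1, 1, 1, 1, 1, 1, 1, 1, 1, 1, 1, 1, 1, 1, 1, 1, 1, 1, 1, 1, 1, 1, 1, 1, 1, 1, 1],
[406, -14, 22, 1, -2, 2, -10, 10, 1, 6, 1, 0, 0, -2, -4, 1, 2, -1, 1, 3, 0, 1, 0, 0, 0, -1, -1, 0],
[783, -1, 15, 0, -1, -1, 15, 15, 3, 8, 0, -1, -1, 3, 3, -1, 0, 0, 0, 3, -1, 0, 1, 0, 0, 0, -1, 0],
[3276, 0, 76, 9, 4, 8, 4, 16, -4, 1, 1, 0, 2, 0, 2, 0, 1, 1, 1, 0, 0, -1, 0, -1, 1, -1, 0, -1],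
[3654, 14, 70, 9, 6, -2, -10, -2, -1, 4, 1, 0, 2, 2, -2, -1, 0, -1, 1, 1, 0, -1, 0, 0, -2, 1, 1, 0],
[20475, 91, -5, 9, -5, -5, -5, -5, 5, 0, 1, 0, -1, 3, -1, 1, 0, 1, 1, 0, 0, -1, -1, 0, 0, -1, 0, 1],
[21750, -90, -10, 15, 6, 6, -10, -10, 0, 0, -1, 1, -2, 2, 2, 0, 0, -1, -1, 1, 1, 0, 0, 0, 0, -1, 1, 0],
[23751, 91, 71, -9, -1, 3, -1, 11, 1, 1, -1, 0, 1, 3, 1, 1, 1, -1, -1, 0, 0, 1, -1, -1, 1, 1, 0, 0],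
[27405, 105, 141, 0, 5, 1, 21, 9, 0, 5, 0, 0, -1, -3, 3, 0, 1, 0, 0, 1, 0, 0, -1, 1, -1, 0, 1, 0],
[45500, 0, 60, 5, 4, 0, -20, 40, 0, 0, -3, 0, -2, 0, -2, 0, 0, 1, 1, 0, 0, 0, 0, 0, 0, 1, 0, -1],
[52780, 0, -84, -5, 4, 8, 4, -16, 0, 5, 3, 0, -2, 0, -2, 0, 1, 1, -1, 0, 0, 0, 0, -1, -1, 1, 0, 0],
[63336, 0, 104, -6, -8, 0, -24, 16, -4, 11, 2, 0, 0, 0, 0, 0, -1, 0, -2, 0, 0, -1, 0, 1, 1, 0, 0, 0],
[65975, 91, 55, 14, -1, 3, 15, -5, 5, 0, -2, 0, 1, -1, -3, 1, 0, 0, -2, 0, 0, -1, 1, 0, 0, 0, 0, 0],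
[71253, -91, -171, 0, 5, 5, 21, 21, 3, 3, 0, 0, 1, 1, -3, -1, -1, 0, 0, 0, 0, 0, -1, 1, 1, 0, 0, 0],
[75400, 104, -120, 16, -8, 0, 0, 0, -5, 0, 0, 3, 0, 0, 0, -1, 0, 0, 0, 0, -1, 1, 0, 0, 0, 0, 0, 0],
[76125, 105, -35, -15, 5, 1, 5, 25, 0, 0, 1, 0, -1, 1, -1, 0, 0, -1, 1, -3, 0, 0, 1, 0, 0, -1, 1, 0],
[81432, -104, 24, 0, -8, -8, 24, 24, -3, 7, 0, 1, 0, 0, 0, 1, -1, 0, 0, 0, 1, 0, 0, -1, -1, 0, 0, 0],
[91350, -14, -170, 9, -2, 2, -10, 10, 5, 0, 1, 0, 0, -2, 4, 1, 0, -1, 1, -1, 0, -1, 0, 0, 0, 1, -1, 0],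
[95004, 0, -100, -9, 4, 0, -20, 8, 4, 4, -1, 0, 2, 0, 2, 0, 0, 1, -1, 0, 0, 1, 0, 0, -2, -1, 0, 0],
[102400, 64, 0, 16, 0, 0, 0, 0, -5, 0, 0, -3, 0, 0, 0, -1, 0, 0, 0, -1, 1, 1, 0, 0, 0, 0, -1, 1],
[105560, 0, 88, -10, -8, 8, 0, -40, 0, 10, -2, 0, 0, 0, 0, 0, -2, 0, 2, 0, 0, 0, 0, 0, 0, 0, 0, 0],
[118784, 64, 0, -16, 0, 0, 0, 0, -1, -16, 0, 1, 0, 0, 0, -1, 0, 0, 0, 3, 1, -1, 0, 0, 0, 0, -1, 0],
[756, 28, -12, 0, 4, -4, -12, 12, 6, 6, 0, 0, 0, -4, 0, -2, -2, 0, 0, 2, 0, 0, 0, -2, 2, 0, 2, 2],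
[69888, 0, 256, 12, 0, 0, 0, 0, 8, -12, 4, 0, 0, 0, 0, 0, -4, 0, 0, 0, 0, 2, 0, 0, 0, 0, 0, -2],
[196560, 0, -48, 0, 16, -16, 0, -48, 0, 10, 0, 0, 0, 0, 0, 0, 2, 0, 0, 0, 0, 0, 0, 0, 2, 0, 0, -2],
[221184, -128, 0, 0, 0, 0, 0, 0, -6, -16, 0, -2, 0, 0, 0, 2, 0, 0, 0, 2, -2, 0, 0, 0, 0, 0, 2, 1],
[81000, -120, 360, 0, 24, 0, 0, 0, 0, 0, 0, 3, 0, 0, 0, 0, 0, 0, 0, -3, -1, 0, 0, 0, 0, 0, -3, 3],
[131544, -168, 216, 0, -24, 0, 0, 0, 9, -6, 0, 0, 0, 0, 0, -3, 6, 0, 0, -3, 0, 0, 0, 0, 0, 0, 1, 0]]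

/-- the orbits -/
def blocks : List (List (ℕ × ℤ)) := [[(0, 1)], [(1, 1)], [(2, 1)], [(3, 1)], [(4, 1)], [(5, 1)], [(6, 1)], [(7, 1)],
    [(8, 1)], [(9, 1)], [(10, 1)], [(11, 1)], [(12, 1)], [(13, 1)], [(14, 1)], [(15, 1)], [(16, 1)], [(17, 1)], [(18,
    1)], [(19, 1)], [(20, 1)], [(21, 1)], [(22, 1), (23, 1)], [(24, 1), (25, 1)], [(26, 1), (27, 1)], [(28, 1), (29,
    1)], [(30, 1), (31, 1), (32, 1)], [(33, 1), (34, 1), (35, 1)]]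

/-- the degrees -/
def degL : List ℕ := [1, 406, 783, 3276, 3654, 20475, 21750, 23751, 27405, 45500, 52780, 63336, 65975, 71253, 75400,
    76125, 81432, 91350, 95004, 102400, 105560, 118784, 378, 378, 34944, 34944, 98280, 98280, 110592, 110592, 27000,
    27000, 27000, 43848, 43848, 43848]

/-- the table -/
def RR : Rows := ⟨degL, blocks.zip rows⟩

/-- the primes and the sections -/
def PL : List (ℕ × ℕ × List ℕ) := [(2, 14, [0, 3, 8, 9, 11, 19]),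
  (3, 3, [0, 2, 6, 7, 8, 14]),
  (5, 3, [0, 1, 2, 3, 6, 7]),
  (7, 1, [0, 1]),
  (13, 1, [0, 1]),
  (29, 1, [0])]

/-- the certificates for the first step -/
def CA : List (ℕ × ℕ × List Cert) := [
  (2, 14, [
⟨0, [.one, .gen 0 1 0, .mul 0 0, .mul 1 0, .gen 1 1 0, .mul 3 0, .mul 1 1, .mul 2 1, .mul 3 1, .gen 2 1 0, .mul 5 0, .gen 3 1 0, .lin [(2012, 11),
      (10252, 10), (6180, 9), (16372, 8), (14122, 7), (6958, 6), (15757, 5), (5835, 4), (14594, 3), (15360, 2), (8094, 1)], .lin [(9765, 12), (12894,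
      11), (7923, 10), (5820, 8), (5017, 7), (147, 6), (8820, 4), (1093, 3), (4691, 1)], .lin [(1576, 13), (12184, 12), (11448, 11), (7996, 9),
      (11448, 8), (5270, 7), (329, 5), (3780, 4)], .lin [(12354, 14), (9326, 13), (4118, 12), (15673, 10), (12310, 9), (5335, 8), (11677, 5)], .lin
      [(16382, 11), (1, 9)], .lin [(4099, 16), (16380, 15), (12289, 14), (8189, 12), (1, 11)], .lin [(1, 17), (16382, 16), (1, 15), (16382, 13)], .lin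
      [(8191, 18), (8193, 17), (1, 14)], .lin [(8193, 19), (8191, 18)], .lin [(1, 20)]], [(10, 1), (7, 2), (9, 4), (8, 4), (1, 8), (5, 8), (4, 16),
      (6, 64), (3, 32), (0, 128)]⟩,
⟨3, [.one, .gen 1 1 0, .mul 0 0, .gen 3 1 0, .mul 0 0, .gen 1 3 0, .lin [(6707, 5), (9677, 3), (13652, 2), (1366, 1)], .lin [(16055, 6), (10813, 5),
      (15726, 3), (5571, 1)], .lin [(8193, 7), (8191, 6)], .lin [(1, 5)], .lin [(1, 9)]], [(2, 1), (3, 2), (4, 2), (0, 4), (1, 16)]⟩,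
⟨8, [.one, .gen 0 1 0, .lin [(12291, 1), (12287, 0)], .lin [(1, 2)]], [(0, 1), (1, 4)]⟩,
⟨9, [.one, .gen 1 1 0, .gen 3 1 0, .mul 0 0, .lin [(5190, 1), (2321, 0)], .lin [(3781, 2)], .lin [(1, 5), (1, 4)], .lin [(1, 6)]], [(2, 1), (3, 2),
      (0, 2), (1, 8)]⟩,
⟨11, [.one, .gen 3 1 0, .lin [(4, 1), (12287, 0)], .lin [(1, 2)]], [(0, 1), (1, 4)]⟩,
⟨19, [.one, .gen 0 1 0, .lin [(12291, 1), (12287, 0)], .lin [(1, 2)]], [(0, 1), (1, 4)]⟩]),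
  (3, 3, [
⟨0, [.one, .lin [(1, 0)]], [(0, 1)]⟩,
⟨2, [.one, .gen 0 1 0, .lin [(3, 1), (7, 0)], .lin [(1, 2)]], [(0, 1), (1, 3)]⟩,
⟨6, [.one, .gen 0 1 0, .lin [(3, 1), (7, 0)], .lin [(1, 2)]], [(0, 1), (1, 3)]⟩,
⟨7, [.one, .gen 0 1 0, .lin [(3, 1), (7, 0)], .lin [(1, 2)]], [(0, 1), (1, 3)]⟩,
⟨8, [.one, .gen 0 1 0, .lin [(3, 1), (17, 0)], .lin [(1, 2)]], [(0, 1), (1, 3)]⟩,
⟨14, [.one, .gen 0 1 0, .lin [(3, 1), (17, 0)], .lin [(1, 2)]], [(0, 1), (1, 3)]⟩]),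
  (5, 3, [
⟨0, [.one, .gen 0 1 0, .lin [(62, 1), (21, 0)], .lin [(1, 2)]], [(1, 1), (0, 5)]⟩,
⟨1, [.one, .gen 2 1 0, .lin [(5, 1), (7, 0)], .lin [(1, 2)]], [(0, 1), (1, 5)]⟩,
⟨2, [.one, .gen 0 1 0, .lin [(5, 1), (108, 0)], .lin [(1, 2)]], [(0, 1), (1, 5)]⟩,
⟨3, [.one, .gen 1 1 0, .lin [(92, 1), (87, 0)], .lin [(1, 2)]], [(0, 1), (1, 5)]⟩,
⟨6, [.one, .gen 0 1 0, .lin [(5, 1), (108, 0)], .lin [(1, 2)]], [(0, 1), (1, 5)]⟩,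
⟨7, [.one, .gen 0 1 0, .lin [(5, 1), (108, 0)], .lin [(1, 2)]], [(0, 1), (1, 5)]⟩]),
  (7, 1, [
⟨0, [.one, .lin [(1, 0)]], [(0, 1)]⟩,
⟨1, [.one, .lin [(1, 0)]], [(0, 1)]⟩]),
  (13, 1, [
⟨0, [.one, .lin [(1, 0)]], [(0, 1)]⟩,
⟨1, [.one, .lin [(1, 0)]], [(0, 1)]⟩]),
  (29, 1, [
⟨0, [.one, .lin [(1, 0)]], [(0, 1)]⟩])]

/-- the certificates for the rows -/
def CB : List (ℕ × ℕ × List Cert) := [
  (2, 14, [
⟨0, [.gen 0 1 0, .mul 0 0, .mul 1 0, .gen 2 1 0, .mul 3 0, .mul 4 0, .mul 2 2, .mul 3 2, .mul 4 1, .mul 5 0, .gen 4 1 0, .mul 10 0, .mul 8 1, .lin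
      [(7056, 9), (7106, 8), (11378, 7), (14851, 6), (299, 5), (15338, 4), (9927, 3), (16336, 2), (9640, 1), (10132, 0)], .lin [(14278, 12), (6062,
      11), (6495, 9), (9485, 8), (5795, 7), (4108, 6), (8991, 5), (4992, 3), (16302, 2), (13649, 1)], .lin [(8016, 12), (14966, 10), (8026, 9),
      (16267, 8), (7019, 7), (39, 6), (10984, 4), (6392, 3), (14948, 2)], .lin [(9673, 14), (8109, 13), (769, 10), (7458, 8), (2457, 5), (4778, 4),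
      (7268, 3)], .lin [(4264, 14), (15318, 11), (3563, 9), (268, 6), (4080, 5), (4742, 4)], .lin [(1755, 7), (7607, 6)], .lin [(1364, 7), (4779, 6)],
      .lin [(1365, 8)], .lin [(10922, 18), (10923, 15)], .lin [(1, 19)]], [(10, 1), (7, 2), (9, 4), (8, 4), (1, 8), (5, 8), (4, 8), (6, 64), (3, 32),
      (0, 128)]⟩,
⟨3, [.one, .gen 1 1 0, .mul 0 0, .gen 3 1 0, .mul 0 0, .gen 4 1 0, .lin [(6707, 5), (9677, 3), (13652, 2), (1366, 1)], .lin [(9309, 6), (7075, 3),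
      (9309, 1)], .lin [(8193, 7), (8191, 6)], .lin [(1, 5)], .lin [(1, 9)]], [(2, 1), (3, 2), (4, 2), (0, 4), (1, 16)]⟩,
⟨8, [.one, .gen 0 1 0, .lin [(12291, 1), (12287, 0)], .lin [(1, 2)]], [(0, 1), (1, 4)]⟩,
⟨9, [.one, .gen 1 1 0, .gen 3 1 0, .mul 0 0, .lin [(5190, 1), (2321, 0)], .lin [(3781, 2)], .lin [(1, 5), (1, 4)], .lin [(1, 6)]], [(2, 1), (3, 2),
      (0, 2), (1, 8)]⟩,
⟨11, [.one, .gen 3 1 0, .lin [(4, 1), (12287, 0)], .lin [(1, 2)]], [(0, 1), (1, 4)]⟩,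
⟨19, [.one, .gen 0 1 0, .lin [(12291, 1), (12287, 0)], .lin [(1, 2)]], [(0, 1), (1, 4)]⟩]),
  (3, 3, [
⟨0, [.one, .lin [(1, 0)]], [(0, 1)]⟩,
⟨2, [.one, .gen 0 1 0, .lin [(3, 1), (7, 0)], .lin [(1, 2)]], [(0, 1), (1, 3)]⟩,
⟨6, [.one, .gen 0 1 0, .lin [(3, 1), (7, 0)], .lin [(1, 2)]], [(0, 1), (1, 3)]⟩,
⟨7, [.one, .gen 0 1 0, .lin [(3, 1), (7, 0)], .lin [(1, 2)]], [(0, 1), (1, 3)]⟩,
⟨8, [.one, .gen 0 1 0, .lin [(3, 1), (17, 0)], .lin [(1, 2)]], [(0, 1), (1, 3)]⟩,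
⟨14, [.one, .gen 0 1 0, .lin [(3, 1), (17, 0)], .lin [(1, 2)]], [(0, 1), (1, 3)]⟩]),
  (5, 3, [
⟨0, [.one, .gen 0 1 0, .lin [(62, 1), (21, 0)], .lin [(1, 2)]], [(1, 1), (0, 5)]⟩,
⟨1, [.one, .gen 2 1 0, .lin [(5, 1), (7, 0)], .lin [(1, 2)]], [(0, 1), (1, 5)]⟩,
⟨2, [.one, .gen 0 1 0, .lin [(5, 1), (108, 0)], .lin [(1, 2)]], [(0, 1), (1, 5)]⟩,
⟨3, [.one, .gen 1 1 0, .lin [(92, 1), (87, 0)], .lin [(1, 2)]], [(0, 1), (1, 5)]⟩,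
⟨6, [.one, .gen 0 1 0, .lin [(5, 1), (108, 0)], .lin [(1, 2)]], [(0, 1), (1, 5)]⟩,
⟨7, [.one, .gen 0 1 0, .lin [(5, 1), (108, 0)], .lin [(1, 2)]], [(0, 1), (1, 5)]⟩]),
  (7, 1, [
⟨0, [.one, .lin [(1, 0)]], [(0, 1)]⟩,
⟨1, [.one, .lin [(1, 0)]], [(0, 1)]⟩]),
  (13, 1, [
⟨0, [.one, .lin [(1, 0)]], [(0, 1)]⟩,
⟨1, [.one, .lin [(1, 0)]], [(0, 1)]⟩]),
  (29, 1, [
⟨0, [.one, .lin [(1, 0)]], [(0, 1)]⟩])]

theorem ok_A : Sm1.okC D PL CA seeds ((sqT 2 1 ([1, 9, 14, 17, 18].map fun i => (1, i))).map (comb rows)) = true := by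
  decide +kernel

theorem ok_B : Sm1.okC D PL CB (seeds ++ [ntd rows [] 1]) rows = true := by decide +kernel

theorem ok_R : Sm1.okR D RR = true := by decide +kernel

/-- **the consequences of the table** -/
theorem fin {G : Type*} [Group G] [Finite G] (h : Seeded G D seeds) (hk : 36 ≤ Nat.card (ConjClasses G)) :
    VAN.Van3 G ∧ OddRat G ∧ OddSig G ∧ DegList G degL := by
  obtain ⟨T, hm, hs⟩ := h
  have h1 := Sm1.virt_five hm rfl hs 1 [1, 9, 14, 17, 18] (by decide) (by decide +kernel) ok_A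
  have h2 := Sm1.virt_okC hm.1 (List.forall_mem_append.2 ⟨hs, List.forall_mem_singleton.2 h1⟩) ok_B
  have hT : Tab T RR := Sm1.tab_of_cls hm (fun r hr => h2 _ (List.of_mem_zip hr).2) ok_R hk
  have hI : Inh T := inh_of_mass hm (by decide +kernel)
  exact ⟨hT.van3 hI hm.1 [(2, 14), (3, 3), (5, 3), (7, 1), (13, 1), (29, 1)] (by decide) 3 11 16
      (by decide +kernel), hT.oddRat hI [] rfl (by decide +kernel),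
    hT.oddSig hI [] rfl [] (fun _ h => by cases h) (by decide +kernel), hT.degList⟩

end Cfsg.Agent.TAB.Ru
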